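import Groth.Agent.Pinch.K838.FerrProps
import Groth.Agent.Pinch.K838.FerrBC
import Groth.Agent.HilbZeta.K842.CoprodRank
import Groth.Agent.Flat2B.IdemRep386
import Groth.Agent.CurvSt.K896.GlueDef

/-!
# Ferrand squares along sections are universal glueings

* `univPush`: `IsFerr a b ν₁ ν₂` along two sections `a : T ⟶ C₁`, `b : T ⟶ C₂` gives `UnivPush`.
* `univGlue`: `IsFerr (coprod.desc a b) (coprod.desc (𝟙 T) (𝟙 T)) ν x` gives `UnivGlue`.
* base change of such squares.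
-/

set_option autoImplicit false
universe u

open CategoryTheory CategoryTheory.Limits AlgebraicGeometry

namespace K782.UnivFerr

open K838.Ferr K896.Glue

theorem isPullback_coprod {X Y T T' X' Y' : Scheme.{u}} {p : X ⟶ T} {q : Y ⟶ T} {g : T' ⟶ T}
    {p' : X' ⟶ T'} {q' : Y' ⟶ T'} {m : X' ⟶ X} {n : Y' ⟶ Y} (h1 : IsPullback m p' p g)
    (h2 : IsPullback n q' q g) :
    IsPullback (coprod.map m n) (coprod.desc p' q') (coprod.desc p q) g := by
  obtain ⟨e, he1, he2⟩ := K842.CoprodRank.exists_iso_pullback_coprod p q g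
  refine IsPullback.of_iso_pullback ⟨?_⟩
    ((coprod.mapIso h1.isoPullback h2.isoPullback) ≪≫ e) ?_ ?_
  · apply coprod.hom_ext
    · rw [coprod.inl_map_assoc, coprod.inl_desc, coprod.inl_desc_assoc, h1.w]
    · rw [coprod.inr_map_assoc, coprod.inr_desc, coprod.inr_desc_assoc, h2.w]
  · rw [Iso.trans_hom, Category.assoc, he2]
    apply coprod.hom_ext
    · simp
    · simp
  · rw [Iso.trans_hom, Category.assoc, he1]
    apply coprod.hom_ext
    · simp
    · simp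

theorem isClosedImmersion_coprodDesc {X Y T : Scheme.{u}} (p : X ⟶ T) (q : Y ⟶ T)
    [IsClosedImmersion p] [IsClosedImmersion q] (h : Disjoint (Set.range p) (Set.range q)) :
    IsClosedImmersion (coprod.desc p q) := by
  rw [IsClosedImmersion.iff_isFinite_and_mono]
  exact ⟨inferInstance, Groth.Agent.Flat2B.IdemRep386.mono_coprod_desc p q h⟩

/-- A section of a separated morphism is a closed immersion. -/
theorem isClosedImmersion_section {C T : Scheme.{u}} (f : C ⟶ T) [IsSeparated f] (a : T ⟶ C) (ha : a ≫ f = 𝟙 T) :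
    IsClosedImmersion a := by
  have : IsClosedImmersion (a ≫ f) := by rw [ha]; infer_instance
  exact IsClosedImmersion.of_comp a f

section Push

variable {C₁ C₂ X T : Scheme.{u}} {f₁ : C₁ ⟶ T} {f₂ : C₂ ⟶ T} {f : X ⟶ T} {a : T ⟶ C₁} {b : T ⟶ C₂} {ν₁ : C₁ ⟶ X}
  {ν₂ : C₂ ⟶ X}

theorem univPush (h : IsFerr a b ν₁ ν₂) (ha : a ≫ f₁ = 𝟙 T) (h1 : ν₁ ≫ f = f₁) (h2 : ν₂ ≫ f = f₂) :
    UnivPush f₁ f₂ f a b ν₁ ν₂ := by
  subst h1 h2
  intro T' C₁' C₂' X' t c₁ c₂ x f₁' f₂' f' a' b' ν₁' ν₂' hC₁ hC₂ hX ha' hb' hac hbc hn1 hn2 hn1' hn2'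
  subst hn1' hn2'
  have hX1 : IsPullback c₁ ν₁' ν₁ x := IsPullback.of_bot hC₁ hn1.symm hX
  have hX2 : IsPullback c₂ ν₂' ν₂ x := IsPullback.of_bot hC₂ hn2.symm hX
  have hZ : IsPullback t a' a c₁ := by
    refine IsPullback.of_bot ?_ hac.symm hC₁
    rw [ha', ha]
    exact IsPullback.id_vert t
  have hflat : Flat (a ≫ ν₁ ≫ f) := by rw [ha]; infer_instance
  refine K838.FerrBC.isPushout_baseChange_of_flat h hX hX1 hX2 hZ hbc ?_
  apply hX.hom_ext
  · rw [Category.assoc, Category.assoc, hn1, hn2, ← Category.assoc, ← Category.assoc, hac, hbc, Category.assoc,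
      Category.assoc, h.w]
  · rw [Category.assoc, Category.assoc, ha', hb']

end Push

section Glue

variable {C X T : Scheme.{u}} {f : C ⟶ T} {q : X ⟶ T} {a b : T ⟶ C} {ν : C ⟶ X} {x₀ : T ⟶ X}

theorem inl_w (w : coprod.desc a b ≫ ν = coprod.desc (𝟙 T) (𝟙 T) ≫ x₀) : a ≫ ν = x₀ := by
  have h := congrArg (fun z => (coprod.inl : T ⟶ T ⨿ T) ≫ z) w
  change coprod.inl ≫ coprod.desc a b ≫ ν = coprod.inl ≫ coprod.desc (𝟙 T) (𝟙 T) ≫ x₀ at h
  rwa [coprod.inl_desc_assoc, coprod.inl_desc_assoc, Category.id_comp] at h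

theorem inr_w (w : coprod.desc a b ≫ ν = coprod.desc (𝟙 T) (𝟙 T) ≫ x₀) : b ≫ ν = x₀ := by
  have h := congrArg (fun z => (coprod.inr : T ⟶ T ⨿ T) ≫ z) w
  change coprod.inr ≫ coprod.desc a b ≫ ν = coprod.inr ≫ coprod.desc (𝟙 T) (𝟙 T) ≫ x₀ at h
  rwa [coprod.inr_desc_assoc, coprod.inr_desc_assoc, Category.id_comp] at h

/-- Base change of a Ferrand square glueing two sections. -/
theorem glue_baseChange (h : IsFerr (coprod.desc a b) (coprod.desc (𝟙 T) (𝟙 T)) ν x₀) (ha : a ≫ f = 𝟙 T)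
    (hb : b ≫ f = 𝟙 T) (h1 : ν ≫ q = f) {T' C' X' : Scheme.{u}} {t : T' ⟶ T} {c : C' ⟶ C} {x : X' ⟶ X}
    {f' : C' ⟶ T'} {q' : X' ⟶ T'} {a' b' : T' ⟶ C'} {ν' : C' ⟶ X'} {x₀' : T' ⟶ X'} (hC : IsPullback c f' f t)
    (hX : IsPullback x q' q t) (ha' : a' ≫ f' = 𝟙 T') (hb' : b' ≫ f' = 𝟙 T') (hac : a' ≫ c = t ≫ a)
    (hbc : b' ≫ c = t ≫ b) (hn : ν' ≫ x = c ≫ ν) (hn' : ν' ≫ q' = f') (hx : a' ≫ ν' = x₀') :
    IsPushout (coprod.desc a' b') (coprod.desc (𝟙 T') (𝟙 T')) ν' x₀' := by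
  subst h1 hn'
  have e1 : a ≫ ν = x₀ := inl_w h.w
  have e2 : b ≫ ν = x₀ := inr_w h.w
  have hX1 : IsPullback c ν' ν x := IsPullback.of_bot hC hn.symm hX
  have hx₀ : x₀' ≫ x = t ≫ x₀ := by
    rw [← hx, Category.assoc, hn, ← Category.assoc, hac, Category.assoc, e1]
  have hx₀q : x₀' ≫ q' = 𝟙 T' := by rw [← hx, Category.assoc, ha']
  have hx₀q₀ : x₀ ≫ q = 𝟙 T := by rw [← e1, Category.assoc, ha]
  have hX2 : IsPullback t x₀' x₀ x := by
    refine IsPullback.of_bot ?_ hx₀.symm hX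
    rw [hx₀q, hx₀q₀]
    exact IsPullback.id_vert t
  have hTT : IsPullback (coprod.map t t) (coprod.desc (𝟙 T') (𝟙 T')) (coprod.desc (𝟙 T) (𝟙 T)) t :=
    isPullback_coprod (IsPullback.id_vert t) (IsPullback.id_vert t)
  have hZ : IsPullback (coprod.map t t) (coprod.desc a' b') (coprod.desc a b) c := by
    refine IsPullback.of_bot ?_ ?_ hC
    · have e3 : coprod.desc a' b' ≫ ν' ≫ q' = coprod.desc (𝟙 T') (𝟙 T') := by
        apply coprod.hom_ext <;> simp [ha', hb']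
      have e4 : coprod.desc a b ≫ ν ≫ q = coprod.desc (𝟙 T) (𝟙 T) := by
        apply coprod.hom_ext <;> simp [ha, hb]
      rw [e3, e4]
      exact hTT
    · apply coprod.hom_ext
      · rw [coprod.inl_map_assoc, coprod.inl_desc, coprod.inl_desc_assoc, hac]
      · rw [coprod.inr_map_assoc, coprod.inr_desc, coprod.inr_desc_assoc, hbc]
  have hflat : Flat (coprod.desc a b ≫ ν ≫ q) := by
    have e4 : coprod.desc a b ≫ ν ≫ q = coprod.desc (𝟙 T) (𝟙 T) := by
      apply coprod.hom_ext <;> simp [ha, hb]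
    rw [e4]
    infer_instance
  refine K838.FerrBC.isPushout_baseChange_of_flat h hX hX1 hX2 hZ ?_ ?_
  · exact hTT.w.symm
  · apply coprod.hom_ext
    · rw [coprod.inl_desc_assoc, coprod.inl_desc_assoc, hx, Category.id_comp]
    · rw [coprod.inr_desc_assoc, coprod.inr_desc_assoc, Category.id_comp]
      apply hX.hom_ext
      · rw [Category.assoc, hn, hx₀, ← Category.assoc, hbc, Category.assoc, e2]
      · rw [Category.assoc, hb', hx₀q]

theorem univGlue (h : IsFerr (coprod.desc a b) (coprod.desc (𝟙 T) (𝟙 T)) ν x₀) (ha : a ≫ f = 𝟙 T)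
    (hb : b ≫ f = 𝟙 T) (h1 : ν ≫ q = f) : UnivGlue f q a b ν := by
  intro T' C' X' t c x f' q' a' b' ν' hC hX ha' hb' hac hbc hn hn'
  have hP := glue_baseChange h ha hb h1 hC hX ha' hb' hac hbc hn hn' rfl
  refine ⟨hn', ?_, fun Z w hw => ?_⟩
  · exact (inr_w hP.w).symm
  · have hw' : coprod.desc a' b' ≫ w = coprod.desc (𝟙 T') (𝟙 T') ≫ a' ≫ w := by
      apply coprod.hom_ext
      · rw [coprod.inl_desc_assoc, coprod.inl_desc_assoc, Category.id_comp]
      · rw [coprod.inr_desc_assoc, coprod.inr_desc_assoc, Category.id_comp, hw]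
    refine ⟨hP.desc w (a' ≫ w) hw', hP.inl_desc _ _ _, fun v hv => ?_⟩
    apply hP.hom_ext
    · rw [hP.inl_desc]; exact hv
    · rw [hP.inr_desc, Category.assoc]
      change ν' ≫ v = w at hv
      rw [hv]

end Glue

end K782.UnivFerr
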